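import Mathlib
import Cfsg.Agent.H348.Lift
import Cfsg.Agent.SmallSimple.WittRing
set_option linter.all false

/-!
# Complex representations of linear groups of order prime to the characteristic
-/

set_option autoImplicit false
set_option linter.style.haveILetI false

namespace Cfsg.Agent.H717.Rep

universe u v

/-- The `p`-adic integers embed into the complex numbers. -/
theorem exists_padic_embedding (p : ℕ) [Fact p.Prime] : ∃ ι : ℤ_[p] →+* ℂ, Function.Injective ι := by
  obtain ⟨f, hf⟩ := Cfsg.Agent.SmallSimple.WittRing.exists_embedding p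
  let g : WittVector p (ZMod p) →+* Cfsg.Agent.SmallSimple.WittRing.A p :=
    WittVector.map (algebraMap (ZMod p) (AlgebraicClosure (ZMod p)))
  have hg : Function.Injective g :=
    WittVector.map_injective _ (algebraMap (ZMod p) (AlgebraicClosure (ZMod p))).injective
  exact ⟨f.comp (g.comp (WittVector.equiv p).symm.toRingHom),
    hf.comp (hg.comp (WittVector.equiv p).symm.injective)⟩

/-- Matrices of an action on an elementary abelian group. -/
theorem exists_gl {D : Type v} {E : Type u} [Group D] [AddCommGroup E] [Finite E]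
    [DistribMulAction D E] [FaithfulSMul D E] {p : ℕ} [hp : Fact p.Prime] (hpE : ∀ e : E, p • e = 0)
    {n : ℕ} (hn : Nat.card E = p ^ n) :
    ∃ σ : D →* GL (Fin n) (ZMod p), Function.Injective σ := by
  letI : Module (ZMod p) E := AddCommGroup.zmodModule (n := p) hpE
  let θ : D →* Module.End (ZMod p) E :=
    { toFun := fun g => AddMonoidHom.toZModLinearMap p (DistribMulAction.toAddMonoidEnd D E g)
      map_one' := by
        refine LinearMap.ext fun v => ?_
        exact one_smul D v
      map_mul' := fun g g' => by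
        refine LinearMap.ext fun v => ?_
        exact mul_smul g g' v }
  haveI : Module.Finite (ZMod p) E := Module.Finite.of_finite
  have hfr : Module.finrank (ZMod p) E = n := by
    have h1 := Module.natCard_eq_pow_finrank (K := ZMod p) (V := E)
    rw [hn, Nat.card_zmod] at h1
    exact (Nat.pow_right_injective hp.out.two_le h1).symm
  let b : Module.Basis (Fin n) (ZMod p) E := Module.finBasisOfFinrankEq (ZMod p) E hfr
  let f : D →* Matrix (Fin n) (Fin n) (ZMod p) :=
    (LinearMap.toMatrixAlgEquiv b : Module.End (ZMod p) E ≃ₐ[ZMod p] _).toAlgHom.toRingHom.toMonoidHom.comp θ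
  refine ⟨f.toHomUnits, ?_⟩
  intro a c hac
  have h2 : f a = f c := congrArg (fun x : GL (Fin n) (ZMod p) => (x : Matrix (Fin n) (Fin n) (ZMod p))) hac
  have h3 : θ a = θ c := (LinearMap.toMatrixAlgEquiv b).injective h2
  apply FaithfulSMul.eq_of_smul_eq_smul (α := E)
  intro e
  exact LinearMap.congr_fun h3 e

/-- **The complex representation of a coprime linear group.** -/
theorem exists_rep {D : Type v} {E : Type u} [Group D] [Finite D] [AddCommGroup E] [Finite E]
    [DistribMulAction D E] [FaithfulSMul D E] {p : ℕ} [hp : Fact p.Prime] (hpE : ∀ e : E, p • e = 0)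
    (hcop : ¬ p ∣ Nat.card D) {n : ℕ} (hn : Nat.card E = p ^ n) :
    ∃ ρ : Representation ℂ D (Fin n → ℂ), Function.Injective ρ := by
  obtain ⟨σ, hσ⟩ := exists_gl (D := D) hpE hn
  have hc : (Nat.card D).Coprime p := ((Nat.Prime.coprime_iff_not_dvd hp.out).2 hcop).symm
  obtain ⟨τ, hτ⟩ := Cfsg.Agent.H348.Lift.exists_lift hc σ
  obtain ⟨ι, hι⟩ := exists_padic_embedding p
  have hτi : Function.Injective τ := by
    intro a b hab
    apply hσ
    rw [← hτ, ← hτ, hab]
  let f : D →* Matrix (Fin n) (Fin n) ℂ :=
    (ι.mapMatrix : Matrix (Fin n) (Fin n) ℤ_[p] →+* Matrix (Fin n) (Fin n) ℂ).toMonoidHom.comp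
      ((Units.coeHom _).comp τ)
  have hf : Function.Injective f := by
    intro a b hab
    apply hτi
    apply Units.ext
    have h1 : ((τ a : GL (Fin n) ℤ_[p]) : Matrix (Fin n) (Fin n) ℤ_[p]).map ι =
      ((τ b : GL (Fin n) ℤ_[p]) : Matrix (Fin n) (Fin n) ℤ_[p]).map ι := hab
    exact Matrix.map_injective hι h1
  refine ⟨(Matrix.toLinAlgEquiv' : Matrix (Fin n) (Fin n) ℂ ≃ₐ[ℂ] _).toAlgHom.toRingHom.toMonoidHom.comp f, ?_⟩
  intro a b hab
  exact hf (Matrix.toLinAlgEquiv'.injective hab)

end Cfsg.Agent.H717.Rep
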