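import Mathlib
import Cfsg.Agent.S0899
import Cfsg.Agent.H607.Ordinary
import Cfsg.Agent.LieRecognition.FT61.Red
set_option linter.all false

/-!
# Normal `r`-subgroups from complex representations of small degree

* `normal_of_lt` : a faithful complex representation of degree `n`, `2 n + 1 < r`: the Sylow `r`-subgroups
  are normal (Feit--Thompson);
* `normal_or_psl` : degree `n`, `2 n + 1 = r`: the Sylow `r`-subgroups are normal or `PSL(2, r)` is involved;
* `exists_normal_of_sq` : degree `n ≤ r` and an element of order `r ^ 2`: there is a nontrivial normal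
  `r`-subgroup.
-/

set_option autoImplicit false
set_option linter.style.haveILetI false

namespace Cfsg.Agent.H717.FT

universe v

/-- Restriction of a faithful representation. -/
theorem restrict {G : Type*} [Group G] {n : ℕ} {ρ : Representation ℂ G (Fin n → ℂ)}
    (hρ : Function.Injective ρ) (K : Subgroup G) :
    Function.Injective (show Representation ℂ K (Fin n → ℂ) from ρ.comp K.subtype) := by
  intro a b hab
  exact Subtype.ext (hρ hab)

theorem normal_or_psl' {G : Type v} [Group G] [Finite G] {n r : ℕ} [hr : Fact r.Prime] (hn : 1 ≤ n)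
    (ρ : Representation ℂ G (Fin n → ℂ)) (hρ : Function.Injective ρ) (h : 2 * n < r) :
    (∀ P : Sylow r G, (P : Subgroup G).Normal) ∨
    (2 * n + 1 = r ∧ ∃ K : Subgroup G, ¬ r ^ 2 ∣ Nat.card K ∧
      Nonempty ((K ⧸ Subgroup.center K) ≃* Matrix.ProjectiveSpecialLinearGroup (Fin 2) (ZMod r))) := by
  by_contra hcon
  rw [not_or] at hcon
  obtain ⟨hc1, hc2⟩ := hcon
  apply hc1
  intro P
  refine Cfsg.Agent.S0899.result n ρ hρ r (Or.inr ⟨?_, ?_⟩) P
  · rcases Nat.lt_or_ge n 2 with h2 | h2
    · -- `n = 1`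
      have hn1 : n = 1 := by omega
      subst hn1
      rcases Nat.lt_or_ge 2 r with h3 | h3
      · exact h3
      · omega
    · omega
  · intro K hK Q
    by_contra hQ
    have hQc : Nat.card Q = r := by
      obtain ⟨k, hk⟩ := IsPGroup.iff_card.1 Q.isPGroup'
      have h1 : Nat.card Q ∣ Nat.card K := Subgroup.card_subgroup_dvd_card _
      change Nat.card (Q : Subgroup K) = _ at hk
      rcases k with _ | _ | k
      · exfalso
        rw [pow_zero, Subgroup.card_eq_one] at hk
        rw [hk] at hQ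
        exact hQ inferInstance
      · rw [zero_add, pow_one] at hk
        exact hk
      · exfalso
        change Nat.card (Q : Subgroup K) ∣ _ at h1
        rw [hk] at h1
        exact hK ((pow_dvd_pow r (by omega : 2 ≤ k + 1 + 1)).trans h1)
    obtain ⟨h4, h5⟩ := Cfsg.Agent.H607.Ordinary.main r (show Representation ℂ K (Fin n → ℂ) from ρ.comp K.subtype)
      (restrict hρ K) hK Q hQc hQ h
    exact hc2 ⟨h4, K, hK, h5⟩

theorem normal_of_lt {G : Type v} [Group G] [Finite G] {n r : ℕ} [hr : Fact r.Prime] (hn : 1 ≤ n)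
    (ρ : Representation ℂ G (Fin n → ℂ)) (hρ : Function.Injective ρ) (h : 2 * n + 1 < r)
    (P : Sylow r G) : (P : Subgroup G).Normal := by
  rcases normal_or_psl' hn ρ hρ (by omega : 2 * n < r) with h1 | ⟨h1, -⟩
  · exact h1 P
  · omega

/-- Nilpotent matrices. -/
theorem pow_eq_zero_of_isNilpotent {k : Type*} [Field k] {n m : ℕ} (hnm : n ≤ m)
    (M : Matrix (Fin n) (Fin n) k) (hM : IsNilpotent M) : M ^ m = 0 := by
  have h1 := Matrix.isNilpotent_charpoly_sub_pow_of_isNilpotent hM
  have h2 := sub_eq_zero.1 h1.eq_zero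
  have h3 := Matrix.aeval_self_charpoly M
  rw [h2, map_pow, Polynomial.aeval_X, Fintype.card_fin] at h3
  exact pow_eq_zero_of_le hnm h3

theorem exists_normal_of_sq {G : Type v} [Group G] [Finite G] {n r : ℕ} [hr : Fact r.Prime] (hn : n ≤ r)
    (ρ : Representation ℂ G (Fin n → ℂ)) (hρ : Function.Injective ρ) {x : G} (hx : orderOf x = r ^ 2) :
    ∃ N : Subgroup G, N.Normal ∧ IsPGroup r N ∧ N ≠ ⊥ := by
  classical
  have hr2 := hr.out.two_le
  let f : G →* Matrix (Fin n) (Fin n) ℂ :=
    (LinearMap.toMatrixAlgEquiv' : Module.End ℂ (Fin n → ℂ) ≃ₐ[ℂ] _).toAlgHom.toRingHom.toMonoidHom.comp ρ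
  have hf : Function.Injective f := by
    intro a b hab
    exact hρ (LinearMap.toMatrixAlgEquiv'.injective hab)
  let σ : G →* GL (Fin n) ℂ := f.toHomUnits
  have hσ : Function.Injective σ := by
    intro a b hab
    exact hf (congrArg (fun u : GL (Fin n) ℂ => (u : Matrix (Fin n) (Fin n) ℂ)) hab)
  obtain ⟨k, _, _, τ, hτ⟩ := Cfsg.Agent.LieRecognition.FT61.Red.exists_reduction_univ r σ
  have hx1 : x ^ r ≠ 1 := by
    intro h
    have h2 := orderOf_dvd_of_pow_eq_one h
    rw [hx] at h2
    have := Nat.le_of_dvd (by omega) h2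
    nlinarith
  rcases Nat.eq_zero_or_pos n with hn0 | hn0
  · exfalso
    subst hn0
    apply hx1
    apply hσ
    exact Subsingleton.elim _ _
  haveI : Nonempty (Fin n) := ⟨⟨0, hn0⟩⟩
  haveI : CharP (Matrix (Fin n) (Fin n) k) r := inferInstance
  refine ⟨τ.ker, inferInstance, ?_, ?_⟩
  · rintro ⟨g, hg⟩
    rw [MonoidHom.mem_ker] at hg
    obtain ⟨a, s, hs, has⟩ := Nat.exists_eq_pow_mul_and_not_dvd (orderOf_pos g).ne' r hr.out.ne_one
    refine ⟨a, Subtype.ext ?_⟩
    change g ^ r ^ a = 1
    apply hσ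
    rw [map_one]
    apply hτ
    · rw [orderOf_pow' _ (pow_ne_zero _ hr.out.ne_zero), has, Nat.gcd_mul_right_left]
      rw [Nat.mul_div_cancel_left _ (pow_pos hr.out.pos a)]
      exact hs
    · rw [map_pow, hg, one_pow]
  · intro hbot
    have h3 : x ^ r ∈ τ.ker := by
      rw [MonoidHom.mem_ker, map_pow]
      set M : Matrix (Fin n) (Fin n) k := ((τ x : GL (Fin n) k) : Matrix (Fin n) (Fin n) k) with hM
      have h4 : M ^ r ^ 2 = 1 := by
        rw [hM, ← Units.val_pow_eq_pow_val, ← map_pow, ← hx, pow_orderOf_eq_one, map_one, Units.val_one]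
      have h5 : (M - 1) ^ r ^ 2 = 0 := by
        rw [sub_pow_char_pow_of_commute _ _ (Commute.one_right M), h4, one_pow, sub_self]
      have h6 : (M - 1) ^ r = 0 := pow_eq_zero_of_isNilpotent hn _ ⟨_, h5⟩
      rw [sub_pow_char_of_commute _ (Commute.one_right M), one_pow, sub_eq_zero] at h6
      apply Units.ext
      rw [Units.val_pow_eq_pow_val, Units.val_one]
      exact h6
    rw [hbot, Subgroup.mem_bot] at h3
    exact hx1 h3

end Cfsg.Agent.H717.FT
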