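import Mathlib
set_option linter.all false

/-!
# Normal abelian subgroups of transitive linear groups are fields

`D` acts by automorphisms on the finite abelian group `E`, transitively on the nonzero elements. A commutative
normal subgroup `A` of `D` generates a field `K` in `End E`, on which `D` acts by conjugation.
-/

set_option autoImplicit false
set_option linter.style.haveILetI false

namespace Cfsg.Agent.H717.FieldOf

universe u v

variable {D : Type v} {E : Type u} [Group D] [AddCommGroup E] [DistribMulAction D E]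

/-- The action of `d`. -/
abbrev dl (E : Type u) [AddCommGroup E] [DistribMulAction D E] : D →* AddMonoid.End E :=
  DistribMulAction.toAddMonoidEnd D E

/-- Conjugation of endomorphisms. -/
def cj (E : Type u) [AddCommGroup E] [DistribMulAction D E] (d : D) :
    AddMonoid.End E →+* AddMonoid.End E where
  toFun r := dl E d * r * dl E d⁻¹
  map_one' := by rw [mul_one, ← map_mul, mul_inv_cancel, map_one]
  map_zero' := by rw [mul_zero, zero_mul]
  map_add' a b := by rw [mul_add, add_mul]
  map_mul' a b := by
    have h : dl E d⁻¹ * dl E d = 1 := by rw [← map_mul, inv_mul_cancel, map_one]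
    calc dl E d * (a * b) * dl E d⁻¹ = dl E d * a * 1 * b * dl E d⁻¹ := by
          rw [mul_one, ← mul_assoc]
      _ = dl E d * a * (dl E d⁻¹ * dl E d) * b * dl E d⁻¹ := by rw [h]
      _ = _ := by simp only [mul_assoc]

theorem finite_end {E : Type u} [AddCommGroup E] [Finite E] : Finite (AddMonoid.End E) :=
  Finite.of_injective (fun f : AddMonoid.End E => (f : E → E)) DFunLike.coe_injective

theorem cj_apply (d : D) (r : AddMonoid.End E) : cj E d r = dl E d * r * dl E d⁻¹ := rfl

theorem cj_one (r : AddMonoid.End E) : cj E (1 : D) r = r := by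
  rw [cj_apply, inv_one, map_one, one_mul, mul_one]

theorem cj_mul (c d : D) (r : AddMonoid.End E) : cj E (c * d) r = cj E c (cj E d r) := by
  rw [cj_apply, cj_apply, cj_apply, mul_inv_rev, map_mul, map_mul]
  simp only [mul_assoc]

/-- The ring generated by a subgroup. -/
def KA (E : Type u) [AddCommGroup E] [DistribMulAction D E] (A : Subgroup D) : Subring (AddMonoid.End E) :=
  Subring.closure (dl E '' (A : Set D))

theorem dl_mem (A : Subgroup D) {a : D} (ha : a ∈ A) : dl E a ∈ KA E A :=
  Subring.subset_closure ⟨a, ha, rfl⟩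

theorem cj_mem (A : Subgroup D) [A.Normal] (d : D) {r : AddMonoid.End E} (hr : r ∈ KA E A) :
    cj E d r ∈ KA E A := by
  have h : KA E A ≤ (KA E A).comap (cj E d) := by
    unfold KA
    rw [Subring.closure_le]
    rintro _ ⟨a, ha, rfl⟩
    change cj E d (dl E a) ∈ Subring.closure (dl E '' (A : Set D))
    rw [cj_apply, ← map_mul, ← map_mul]
    exact Subring.subset_closure ⟨d * a * d⁻¹, Subgroup.Normal.conj_mem ‹_› a ha d, rfl⟩
  exact h hr

theorem KA_comm (A : Subgroup D) (hA : ∀ a ∈ A, ∀ b ∈ A, a * b = b * a) {r s : AddMonoid.End E}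
    (hr : r ∈ KA E A) (hs : s ∈ KA E A) : r * s = s * r := by
  have hc : ∀ x ∈ (dl E '' (A : Set D)), ∀ y ∈ (dl E '' (A : Set D)), x * y = y * x := by
    rintro _ ⟨a, ha, rfl⟩ _ ⟨b, hb, rfl⟩
    rw [← map_mul, ← map_mul, hA a ha b hb]
  have hi := Subring.isMulCommutative_closure hc
  have := hi.is_comm.comm (⟨r, hr⟩ : Subring.closure (dl E '' (A : Set D))) ⟨s, hs⟩
  exact congrArg Subtype.val this

/-- The annihilator of a vector. -/
def ann (A : Subgroup D) (x : E) : Set (AddMonoid.End E) := {r | r ∈ KA E A ∧ r x = 0}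

theorem ncard_ann_smul [Finite E] (A : Subgroup D) [A.Normal] (d : D) (x : E) :
    (ann A (d • x)).ncard = (ann A x).ncard := by
  have hfin : Finite (AddMonoid.End E) := finite_end
  have key : ∀ (d : D) (x : E), (ann A x).ncard ≤ (ann A (d • x)).ncard := by
    intro d x
    refine Set.ncard_le_ncard_of_injOn (cj E d) ?_ ?_ (Set.toFinite _)
    · rintro r ⟨hr, hx⟩
      refine ⟨cj_mem A d hr, ?_⟩
      change d • (r (d⁻¹ • (d • x))) = 0
      rw [inv_smul_smul, hx, smul_zero]
    · intro r _ s _ h
      have h2 := congrArg (cj E d⁻¹) h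
      rwa [← cj_mul, ← cj_mul, inv_mul_cancel, cj_one, cj_one] at h2
  refine le_antisymm ?_ (key d x)
  have := key d⁻¹ (d • x)
  rwa [inv_smul_smul] at this

/-- Every nonzero element of the ring generated by a commutative normal subgroup is injective. -/
theorem eq_zero_of_apply [Finite E] (htr : ∀ x y : E, x ≠ 0 → y ≠ 0 → ∃ d : D, d • x = y)
    (A : Subgroup D) [A.Normal] (hA : ∀ a ∈ A, ∀ b ∈ A, a * b = b * a) {r : AddMonoid.End E}
    (hr : r ∈ KA E A) {x : E} (hx : x ≠ 0) (hrx : r x = 0) : r = 0 := by
  have hfin : Finite (AddMonoid.End E) := finite_end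
  have hcard : ∀ x y : E, x ≠ 0 → y ≠ 0 → (ann A x).ncard = (ann A y).ncard := by
    intro x y hx hy
    obtain ⟨d, rfl⟩ := htr x y hx hy
    exact (ncard_ann_smul A d x).symm
  -- Claim 1
  have h1 : ∀ (s : AddMonoid.End E) (y : E), s ∈ KA E A → y ≠ 0 → s y ≠ 0 → ann A (s y) = ann A y := by
    intro s y hs hy hsy
    refine (Set.eq_of_subset_of_ncard_le ?_ (hcard _ _ hsy hy).le (Set.toFinite _)).symm
    rintro t ⟨ht, hty⟩
    refine ⟨ht, ?_⟩
    change (t * s) y = 0
    rw [KA_comm A hA ht hs]
    change s (t y) = 0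
    rw [hty, map_zero]
  -- Claim 2
  have h2 : ∀ y z : E, y ≠ 0 → z ≠ 0 → ann A y = ann A z := by
    intro y z hy hz
    by_contra hne
    have e1 : ¬ ann A y ⊆ ann A z := fun h =>
      hne (Set.eq_of_subset_of_ncard_le h (hcard _ _ hz hy).le (Set.toFinite _))
    have e2 : ¬ ann A z ⊆ ann A y := fun h =>
      hne (Set.eq_of_subset_of_ncard_le h (hcard _ _ hy hz).le (Set.toFinite _)).symm
    obtain ⟨s, ⟨hs, hsy⟩, hsz⟩ := Set.not_subset.1 e1
    obtain ⟨t, ⟨ht, htz⟩, hty⟩ := Set.not_subset.1 e2
    have hsz' : s z ≠ 0 := fun h => hsz ⟨hs, h⟩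
    have hty' : t y ≠ 0 := fun h => hty ⟨ht, h⟩
    have k1 : s (y + z) = s z := by rw [map_add, hsy, zero_add]
    have k2 : t (y + z) = t y := by rw [map_add, htz, add_zero]
    have k3 : y + z ≠ 0 := by
      intro h
      rw [h, map_zero] at k1
      exact hsz' k1.symm
    have m1 := h1 s (y + z) hs k3 (by rw [k1]; exact hsz')
    have m2 := h1 t (y + z) ht k3 (by rw [k2]; exact hty')
    rw [k1, h1 s z hs hz hsz'] at m1
    rw [k2, h1 t y ht hy hty'] at m2
    exact hne (m2.trans m1.symm)
  refine AddMonoidHom.ext fun y => ?_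
  by_cases hy : y = 0
  · rw [hy]
    exact (map_zero r).trans (map_zero (0 : AddMonoid.End E)).symm
  · have : r ∈ ann A y := by
      rw [h2 y x hy hx]
      exact ⟨hr, hrx⟩
    exact this.2

/-- **A commutative normal subgroup of a transitive linear group generates a field**, over which the
group is semilinear. -/
theorem exists_field [Finite E] [Nontrivial E] [FaithfulSMul D E]
    (htr : ∀ x y : E, x ≠ 0 → y ≠ 0 → ∃ d : D, d • x = y)
    (A : Subgroup D) [A.Normal] (hA : ∀ a ∈ A, ∀ b ∈ A, a * b = b * a) :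
    ∃ (K : Type u) (_ : Field K) (_ : Finite K) (_ : Module K E) (φ : A →* Kˣ) (σ : D →* (K ≃+* K)),
      (∀ (a : A) (e : E), ((φ a : Kˣ) : K) • e = (a : D) • e) ∧
      (∀ (d : D) (k : K) (e : E), d • (k • e) = (σ d k) • (d • e)) ∧
      (∀ d : D, σ d = 1 ↔ d ∈ Subgroup.centralizer (A : Set D)) := by
  have hfin : Finite (AddMonoid.End E) := finite_end
  obtain ⟨x₀, hx₀⟩ := exists_ne (0 : E)
  let R : Subring (AddMonoid.End E) := KA E A
  letI : CommRing R := { (inferInstance : Ring R) with
    mul_comm := fun a b => Subtype.ext (KA_comm A hA a.2 b.2) }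
  haveI : Nontrivial R := ⟨⟨0, 1, by
    intro h
    have h2 : (0 : AddMonoid.End E) = 1 := congrArg Subtype.val h
    have h3 := DFunLike.congr_fun h2 x₀
    exact hx₀ h3.symm⟩⟩
  haveI : NoZeroDivisors R := ⟨by
    intro a b hab
    by_contra hne
    rw [not_or] at hne
    have hb : ∃ y : E, (b : AddMonoid.End E) y ≠ 0 := by
      by_contra hcon
      push Not at hcon
      exact hne.2 (Subtype.ext (AddMonoidHom.ext hcon))
    obtain ⟨y, hy⟩ := hb
    have h4 : (a : AddMonoid.End E) ((b : AddMonoid.End E) y) = 0 := by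
      have := congrArg (fun r : R => (r : AddMonoid.End E) y) hab
      exact this
    exact hne.1 (Subtype.ext (eq_zero_of_apply htr A hA a.2 hy h4))⟩
  haveI : IsDomain R := NoZeroDivisors.to_isDomain R
  letI : Field R := (Finite.isField_of_domain R).toField
  letI : Module R E := inferInstance
  have hsm : ∀ (r : R) (e : E), r • e = (r : AddMonoid.End E) e := fun _ _ => rfl
  let φ₀ : A →* R :=
    { toFun := fun a => ⟨dl E (a : D), dl_mem A a.2⟩
      map_one' := Subtype.ext (map_one (dl E))
      map_mul' := fun a b => Subtype.ext (map_mul (dl E) (a : D) (b : D)) }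
  let cjR : D → (R ≃+* R) := fun d =>
    { toFun := fun r => ⟨cj E d r, cj_mem A d r.2⟩
      invFun := fun r => ⟨cj E d⁻¹ r, cj_mem A d⁻¹ r.2⟩
      left_inv := fun r => Subtype.ext (by
        change cj E d⁻¹ (cj E d (r : AddMonoid.End E)) = r
        rw [← cj_mul, inv_mul_cancel, cj_one])
      right_inv := fun r => Subtype.ext (by
        change cj E d (cj E d⁻¹ (r : AddMonoid.End E)) = r
        rw [← cj_mul, mul_inv_cancel, cj_one])
      map_mul' := fun r s => Subtype.ext (map_mul (cj E d) (r : AddMonoid.End E) (s : AddMonoid.End E))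
      map_add' := fun r s => Subtype.ext (map_add (cj E d) (r : AddMonoid.End E) (s : AddMonoid.End E)) }
  let σ : D →* (R ≃+* R) :=
    { toFun := cjR
      map_one' := RingEquiv.ext fun r => Subtype.ext (cj_one _)
      map_mul' := fun c d => RingEquiv.ext fun r => Subtype.ext (cj_mul c d _) }
  have hσ : ∀ (d : D) (r : R), ((σ d r : R) : AddMonoid.End E) = cj E d r := fun _ _ => rfl
  refine ⟨R, inferInstance, inferInstance, inferInstance, φ₀.toHomUnits, σ, ?_, ?_, ?_⟩
  · intro a e
    rfl
  · intro d k e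
    change d • ((k : AddMonoid.End E) e) = d • ((k : AddMonoid.End E) (d⁻¹ • (d • e)))
    rw [inv_smul_smul]
  · intro d
    rw [Subgroup.mem_centralizer_iff]
    constructor
    · intro h a ha
      have h5 : cj E d (dl E a) = dl E a := by
        have := congrArg (fun f : R ≃+* R => ((f ⟨dl E a, dl_mem A ha⟩ : R) : AddMonoid.End E)) h
        exact this
      rw [cj_apply, ← map_mul, ← map_mul] at h5
      have h6 : d * a * d⁻¹ = a := by
        apply FaithfulSMul.eq_of_smul_eq_smul (α := E)
        intro e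
        exact DFunLike.congr_fun h5 e
      calc a * d = (d * a * d⁻¹) * d := by rw [h6]
        _ = d * a := by group
    · intro h
      have hle : KA E A ≤ (Subring.centralizer {dl E d}) := by
        unfold KA
        rw [Subring.closure_le]
        rintro _ ⟨a, ha, rfl⟩
        rw [SetLike.mem_coe, Subring.mem_centralizer_iff]
        rintro _ rfl
        rw [← map_mul, ← map_mul, h a ha]
      refine RingEquiv.ext fun r => Subtype.ext ?_
      have h7 := hle r.2
      rw [Subring.mem_centralizer_iff] at h7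
      have h8 := h7 _ rfl
      rw [hσ, cj_apply, h8, mul_assoc, ← map_mul, mul_inv_cancel, map_one, mul_one]
      rfl

end Cfsg.Agent.H717.FieldOf
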