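import Cfsg.Agent.H678.DG.Basic
import Cfsg.Agent.H870.IMFiTwentyTwo
import Cfsg.Agent.H671.GraphFin_m3
import Cfsg.Agent.H653.Spor.Mathieu
import Cfsg.Agent.H714.DG.CoTwoX
import Cfsg.Agent.H678.DG.McL
import Cfsg.Agent.H678.DG.Tits_m3
import Cfsg.Agent.H678.DG.FiDeg
import Cfsg.Agent.H653.Spor.J1
import Cfsg.Agent.H653.Spor.J3
import Cfsg.Agent.H653.Spor.Fi24_m3
import Cfsg.Agent.H492.FactsHN
import Cfsg.Agent.H492.FactsON
import Cfsg.Agent.H492.FactsTh
import Cfsg.Agent.H492.IMJ4
import Cfsg.Agent.H843.IMC.RowsB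
import Cfsg.Agent.H877.BSgnDeg
import Cfsg.Agent.H816.IMM
import Cfsg.Agent.H477.HC.SpSix
import Cfsg.Agent.H671.H5Facts
import Cfsg.Agent.S4774
import Cfsg.Agent.S4812
import Cfsg.Agent.ClassicalGeometry.PSL2Basic
import Cfsg.Agent.H352.Order120
import Cfsg.Agent.TwoFusion.SLTwoFacts
import Mathlib.Combinatorics.SimpleGraph.Metric
import Cfsg.Agent.Prune
set_option linter.all false

section
prune_inst 0x7f00000000000000000000000000000000000000000000000000000000000000000000000000000000000000000000000000000000000000000000000000000000000000000000000000000000000000003fffffffffffffffffffffffffffbeffbdffffffff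

-- part: H671/GraphSpor
section
set_option linter.all false
open scoped Cfsg.Agent.FastGrp

-- part: H653/Spor/Fi22
section
/-!
# The degree graph of `Fi₂₂` (helper653)

The degrees 429 and 3080 of the rank 3 permutation character on the transpositions (or 1430 and 2079, which the
arithmetic allows) are enough.
-/

set_option autoImplicit false

namespace Cfsg.Agent.H653.Spor.Fi22

open Cfsg Cfsg.Agent.Characters.Core Cfsg.Agent.H690.Spor.RankThree Cfsg.Agent.LThreeFi22 Cfsg.Agent.H870.IMFi22
open Cfsg.Agent.H678.DG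

universe u v

theorem facts_ctx {K : Type v} [Group K] {T : Set K} (C : Ctx K T) : Facts K := by
  classical
  let _ := act C
  have := C.finite
  have h := r3 C
  have hX : Finite T := by
    apply Nat.finite_of_card_ne_zero
    rw [h.cardn]
    omega
  have := Fintype.ofFinite T
  obtain ⟨χ₁, χ₂, f, g, D, h1, h2, -, h3, h4, h5⟩ := h.frame
  have e1 : charDegree (χ₁ : K → ℂ) = f := Cfsg.Agent.Blocks.Basic.charDegree_of_eq h1
  have e2 : charDegree (χ₂ : K → ℂ) = g := Cfsg.Agent.Blocks.Basic.charDegree_of_eq h2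
  have hP : ∀ p ∈ Cfsg.degreePrimes K, p ∈ [2, 3, 5, 7, 11, 13] := by
    refine mem_of_card (f := fun p => if p = 2 then 17 else if p = 3 then 9 else if p = 5 then 2 else 1) ?_ (by
      intro p hp
      simp only [List.mem_cons, List.not_mem_nil, or_false] at hp
      rcases hp with rfl | rfl | rfl | rfl | rfl | rfl <;> norm_num)
    rw [C.card]
    norm_num
  have key : ∀ a b : ℕ, f = a → g = b → ok [2, 3, 5, 7, 11, 13] [a, b] = true → Facts K := by
    rintro a b rfl rfl hok
    refine Facts.of_list (P := [2, 3, 5, 7, 11, 13]) (D := [f, g]) (by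
      intro p hp
      simp only [List.mem_cons, List.not_mem_nil, or_false] at hp
      rcases hp with rfl | rfl | rfl | rfl | rfl | rfl <;> norm_num) (by decide) hP ?_ hok
    intro d hd
    simp only [List.mem_cons, List.not_mem_nil, or_false] at hd
    rcases hd with rfl | rfl
    · exact ⟨χ₁, by rw [e1]⟩
    · exact ⟨χ₂, by rw [e2]⟩
  rcases degrees h3 h4 h5 with (⟨h6, h7⟩ | ⟨h6, h7⟩) | (⟨h6, h7⟩ | ⟨h6, h7⟩)
  all_goals exact key _ _ h6 h7 (by decide)

/-- **The degree graph of `Fi₂₂`.** -/
theorem facts_fi22 {S : Type u} [Group S] (h : Spor.IsoFi22 S) : Facts S := by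
  obtain ⟨e⟩ := h
  exact facts_ctx (Inst.ctx e)

end Cfsg.Agent.H653.Spor.Fi22
end

-- part: H671/GraphSpor
section
/-!
# The graph facts of the sporadic groups (hub H5, helper671)

* `spor_split` : a sporadic group satisfies `GFacts`, or is one of the groups whose row is incomplete;
* `factConn'`, `factInd'`, `factTri'`, `factDia'` : the four facts for all simple groups, from the missing rows.
-/

set_option autoImplicit false

namespace Cfsg.Agent.H671.GraphAsm

open Cfsg Cfsg.Agent.H671.H5

universe u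

theorem GFacts.of678 {S : Type u} [Group S] (h : H678.DG.Facts S) : GFacts S := ⟨h.conn, h.ind, h.tri⟩

theorem GFacts.of653 {S : Type u} [Group S] (h : H653.Graph.GraphFacts S) : GFacts S := ⟨h.conn, h.ind, h.tri⟩

theorem tits (S : Type u) [Group S] [Finite S] [IsSimpleGroup S] (h : Lie.IsoTits S) : GFacts S :=
  GFacts.of678 (H678.DG.Tits.facts_tits h)

/-- all the nonsporadic rows -/
theorem restAll : Rest.{u} := rest H477.HC.tsp62 tits

/-- The sporadic groups: those whose graph facts are proved, and the others. -/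
theorem spor_split (hK0 : KnownAll.{0}) {S : Type u} [Group S] [Finite S] (h : IsSporadicGroup S) :
    GFacts S ∨ (Spor.IsoRu S ∨ Spor.IsoFi24' S) := by
  rcases h with h | h | h | h | h | h | h | h | h | h | h | h | h | h | h | h | h | h | h | h | h | h | h | h | h | h
  · exact Or.inl (.of678 (H678.DG.Mathieu.facts_m11 h))
  · exact Or.inl (.of678 (H678.DG.Mathieu.facts_m12 h))
  · exact Or.inl (.of678 (H653.Spor.Mathieu.facts_m22 h))
  · exact Or.inl (.of678 (H653.Spor.Mathieu.facts_m23 h))
  · exact Or.inl (.of678 (H653.Spor.Mathieu.facts_m24 h))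
  · exact Or.inl (.of653 (H653.Spor.J1.facts S h))
  · exact Or.inl (.of678 (H678.DG.Rows.facts_j2 h))
  · exact Or.inl (.of653 (H653.Spor.J3.facts S h))
  · exact Or.inl (.of678 (H492.IMJ4.facts_j4 h))
  · exact Or.inl (.of678 (H843.IMC.Rows.facts_co1 h))
  · exact Or.inl (.of678 (H843.IMC.Rows.facts_co2 h))
  · exact Or.inl (.of678 (H843.IMC.Rows.facts_co3 h))
  · exact Or.inl (.of678 (H678.DG.McL.facts_mcl h))
  · exact Or.inl (.of678 (H678.DG.HS.facts_hs h))
  · exact Or.inl (.of678 (H678.DG.Rows.facts_suz h))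
  · exact Or.inl (.of678 (H678.DG.He.facts_he h))
  · exact Or.inr (Or.inl h)
  · exact Or.inl (.of678 (H492.FactsON.facts_on h))
  · exact Or.inl (.of678 (H653.Spor.Ly.facts_ly (fun X _ _ _ => hK0 X) h))
  · exact Or.inl (.of678 (H653.Spor.Fi22.facts_fi22 h))
  · exact Or.inl (.of678 (H678.DG.FiBlk.facts_fi23 h))
  · exact Or.inr (Or.inr (h))
  · exact Or.inl (.of678 (H492.FactsHN.facts_hn h))
  · exact Or.inl (.of678 (H492.FactsTh.facts_th h))
  · exact Or.inl (.of678 (H995.IMB.facts_b h))
  · exact Or.inl (.of678 (H816.IMM.facts_m h))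

/-- **`FactConn`**. -/
theorem factConn' (hK : KnownAll.{u}) (hK0 : KnownAll.{0}) (hH : Herzog.{u}) : FactConn.{u} :=
  factConn hK hH restAll fun S _ _ _ h => by
    rcases spor_split hK0 h with h | h | h
    · exact h.conn
    · exact (H653.Spor.Ru.facts h).conn
    · exact (H653.Spor.Fi24.facts h).conn

/-- **`FactTri`**. -/
theorem factTri' (hK : KnownAll.{u}) (hK0 : KnownAll.{0}) (hH : Herzog.{u}) : FactTri.{u} :=
  factTri hK hH restAll fun S _ _ _ h => by
    rcases spor_split hK0 h with h | h | h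
    · exact h.tri
    · exact (H653.Spor.Ru.facts h).tri
    · exact (H653.Spor.Fi24.facts h).tri

/-- **`FactDia`**. -/
theorem factDia' (hK : KnownAll.{u}) (hK0 : KnownAll.{0}) (hH : Herzog.{u}) : FactDia.{u} :=
  factDia hK hH restAll fun S _ _ _ h hc => by
    rcases spor_split hK0 h with h | h | h
    · exact h.dia
    · exact (H653.Spor.Ru.facts h).dia
    · exact (H653.Spor.Fi24.facts h).dia

end Cfsg.Agent.H671.GraphAsm
end
end

-- part: H717/DegGraph_mg
section
set_option linter.all false
open scoped Cfsg.Agent.FastGrp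

-- part: H717/DegGraph
section
/-!
# S4772 and S4998 from the facts on the degree graphs of the simple groups
-/

set_option autoImplicit false

namespace Cfsg.Agent.H717.Deg

open Cfsg.Agent.H671.H5

universe u

/-- A graph with an isolated vertex and another vertex is not preconnected. -/
theorem not_preconnected {V : Type*} (G : SimpleGraph V) (a b : V) (hab : a ≠ b) (ha : ∀ c, ¬ G.Adj a c) :
    ¬ G.Preconnected := by
  intro h
  obtain ⟨w⟩ := h a b
  cases w with
  | nil => exact hab rfl
  | cons h _ => exact ha _ h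

theorem not_comm_of_card_sixty {S : Type*} [Group S] [IsSimpleGroup S] (hc : Nat.card S = 60) :
    ¬ ∀ a b : S, a * b = b * a := by
  intro h
  let _ : CommGroup S := { (inferInstance : Group S) with mul_comm := h }
  have : Finite S := Nat.finite_of_card_ne_zero (by rw [hc]; norm_num)
  have h2 := IsSimpleGroup.prime_card (α := S)
  rw [hc] at h2
  exact absurd h2 (by norm_num)

/-- A nonabelian simple group isomorphic to `PSL(2,5)` is isomorphic to `PSL(2,4)`. -/
theorem equiv_psl_four {S : Type u} [Group S] [Finite S] (hS : IsSimpleGroup S) (hna : ¬ IsMulCommutative S)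
    (F : Type) [Field F] [Fintype F] (h5 : Fintype.card F = 5)
    (e : S ≃* Matrix.ProjectiveSpecialLinearGroup (Fin 2) F) :
    Nonempty (S ≃* Matrix.ProjectiveSpecialLinearGroup (Fin 2) (GaloisField 2 2)) := by
  classical
  have : Fintype (GaloisField 2 2) := Fintype.ofFinite _
  have h4 : Fintype.card (GaloisField 2 2) = 4 := by
    rw [← Nat.card_eq_fintype_card, GaloisField.card 2 2 (by norm_num)]
    norm_num
  -- `S`
  have hc : Nat.card S = 60 := by
    have h1 := Cfsg.Agent.ClassicalGeometry.PSL2Basic.card_PSL2_odd (F := F) (by rw [h5]; decide)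
    rw [h5] at h1
    rw [Nat.card_congr e.toEquiv]
    omega
  have hns : ¬ Group.IsSolvable S := by
    intro h
    exact hna ⟨⟨IsSimpleGroup.comm_iff_isSolvable.2 h⟩⟩
  obtain ⟨e1⟩ := Cfsg.Agent.H352.Order120.alt5_of_card_60 hc hns
  -- `PSL(2,4)`
  have hc' : Nat.card (Matrix.ProjectiveSpecialLinearGroup (Fin 2) (GaloisField 2 2)) = 60 := by
    have h1 := Cfsg.Agent.ClassicalGeometry.PSL2Basic.card_PSL2_even (F := GaloisField 2 2) (by rw [h4]; decide)
    rw [h4] at h1
    rw [h1]
    norm_num
  have hsi : IsSimpleGroup (Matrix.ProjectiveSpecialLinearGroup (Fin 2) (GaloisField 2 2)) :=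
    Cfsg.Agent.TwoFusion.SLTwoFacts.isSimpleGroup_psl (by rw [h4]; norm_num)
  have hns' : ¬ Group.IsSolvable (Matrix.ProjectiveSpecialLinearGroup (Fin 2) (GaloisField 2 2)) := by
    intro h
    exact not_comm_of_card_sixty hc' (IsSimpleGroup.comm_iff_isSolvable.2 h)
  obtain ⟨e2⟩ := Cfsg.Agent.H352.Order120.alt5_of_card_60 hc' hns'
  exact ⟨e1.trans e2.symm⟩

/-- The degree graph of `PSL(2,F)` is disconnected. -/
theorem not_preconnected_of_isL2 {S : Type u} [Group S] [Finite S] (hS : IsSimpleGroup S)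
    (hna : ¬ IsMulCommutative S) (h : IsL2 S) :
    ¬ ((Cfsg.degreeGraph S).induce (Cfsg.degreePrimes S)).Preconnected := by
  classical
  -- characteristic two
  have heven : ∀ (F : Type) [Field F] [Fintype F] [CharP F 2], 4 ≤ Fintype.card F →
      Nonempty (S ≃* Matrix.ProjectiveSpecialLinearGroup (Fin 2) F) →
      ¬ ((Cfsg.degreeGraph S).induce (Cfsg.degreePrimes S)).Preconnected := by
    intro F _ _ _ h4 he
    obtain ⟨h1, h2⟩ := Cfsg.Agent.S4812.result F (Fintype.card F) rfl h4 (S := S) (Or.inl he)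
    set q := Fintype.card F with hq
    have heq : 2 ∣ q := by
      obtain ⟨⟨k, hk⟩, -, hk2⟩ := FiniteField.card F 2
      rw [hq, hk2]
      exact dvd_pow_self 2 hk.ne'
    obtain ⟨r, hr, hrq⟩ := Nat.exists_prime_and_dvd (show q + 1 ≠ 1 by omega)
    have hr2 : r ≠ 2 := by
      rintro rfl
      omega
    have hq1 : q ^ 2 - 1 = (q + 1) * (q - 1) := by
      have := Nat.sq_sub_sq q 1
      simpa using this
    have hm2 : 2 ∈ Cfsg.degreePrimes S := by
      rw [h1]
      exact ⟨Nat.prime_two, heq.mul_right _⟩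
    have hmr : r ∈ Cfsg.degreePrimes S := by
      rw [h1]
      refine ⟨hr, ?_⟩
      rw [hq1]
      exact (hrq.mul_right _).mul_left _
    refine not_preconnected _ ⟨2, hm2⟩ ⟨r, hmr⟩ (fun h => hr2 (congrArg Subtype.val h).symm) ?_
    rintro ⟨s, hs⟩ hadj
    have h3 : (Cfsg.degreeGraph S).Adj 2 s := hadj
    rw [h2] at h3
    obtain ⟨-, -, -, h4 | h4⟩ := h3
    · have := h4.1
      omega
    · have := h4.1
      omega
  obtain ⟨F, _, _, h4, ⟨e⟩⟩ := h
  obtain ⟨t, ht⟩ := CharP.exists F
  have htp : Fact t.Prime := ⟨CharP.char_is_prime F t⟩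
  by_cases ht2 : t = 2
  · subst ht2
    exact heven F h4 ⟨e⟩
  by_cases h5 : Fintype.card F = 5
  · have : Fintype (GaloisField 2 2) := Fintype.ofFinite _
    refine heven (GaloisField 2 2) ?_ (equiv_psl_four hS hna F h5 e)
    rw [← Nat.card_eq_fintype_card, GaloisField.card 2 2 (by norm_num)]
    norm_num
  · have hq5 : 5 < Fintype.card F := by
      obtain ⟨⟨k, hk⟩, -, hk2⟩ := FiniteField.card F t
      have h6 : Fintype.card F ≠ 4 := by
        intro h6
        rw [h6] at hk2
        have h7 : t ∣ 4 := by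
          rw [hk2]
          exact dvd_pow_self t hk.ne'
        have h8 : t ∣ 2 ^ 2 := h7
        exact ht2 ((Nat.prime_dvd_prime_iff_eq htp.out Nat.prime_two).1 (htp.out.dvd_of_dvd_pow h8))
      omega
    obtain ⟨h1, h2⟩ := Cfsg.Agent.S4774.result F t ht2 (Fintype.card F) rfl hq5 (S := S) (Or.inl ⟨e⟩)
    set q := Fintype.card F with hq
    have htq : t ∣ q := by
      obtain ⟨⟨k, hk⟩, -, hk2⟩ := FiniteField.card F t
      rw [hq, hk2]
      exact dvd_pow_self t hk.ne'
    have hnt : ¬ t ∣ q ^ 2 - 1 := by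
      intro h
      have h3 : t ∣ q ^ 2 := htq.trans (dvd_pow_self q two_ne_zero)
      have h4 : q ^ 2 = (q ^ 2 - 1) + 1 := by
        have : 1 ≤ q ^ 2 := Nat.one_le_pow _ _ (by omega)
        omega
      rw [h4] at h3
      exact htp.out.one_lt.ne' (Nat.dvd_one.1 ((Nat.dvd_add_right h).1 h3))
    have h2q : 2 ∣ q ^ 2 - 1 := by
      have hodd : Odd q := by
        obtain ⟨⟨k, hk⟩, -, hk2⟩ := FiniteField.card F t
        rw [hq, hk2]
        exact (htp.out.odd_of_ne_two ht2).pow
      obtain ⟨k, hk⟩ := hodd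
      rw [hk]
      refine ⟨2 * k ^ 2 + 2 * k, ?_⟩
      have : (2 * k + 1) ^ 2 = 2 * (2 * k ^ 2 + 2 * k) + 1 := by ring
      omega
    have hmt : t ∈ Cfsg.degreePrimes S := by
      rw [h1]
      exact ⟨htp.out, htq.mul_right _⟩
    have hm2 : 2 ∈ Cfsg.degreePrimes S := by
      rw [h1]
      exact ⟨Nat.prime_two, h2q.mul_left _⟩
    refine not_preconnected _ ⟨t, hmt⟩ ⟨2, hm2⟩ (fun h => ht2 (congrArg Subtype.val h)) ?_
    rintro ⟨s, hs⟩ hadj
    have h3 : (Cfsg.degreeGraph S).Adj t s := hadj
    rw [h2] at h3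
    exact hnt h3.2.2.2.1

/-- **S4772** from the fact on connectedness. -/
theorem S4772_of (hC : FactConn.{u}) {G : Type u} [Group G] [Finite G] (hG : IsSimpleGroup G)
    (hna : ¬ IsMulCommutative G) :
    ¬ ((Cfsg.degreeGraph G).induce (Cfsg.degreePrimes G)).Preconnected ↔
      ∃ (F : Type) (_ : Field F) (_ : Fintype F), 4 ≤ Fintype.card F ∧
        Nonempty (G ≃* Matrix.ProjectiveSpecialLinearGroup (Fin 2) F) := by
  constructor
  · intro h
    by_contra hL
    exact h (hC G hna hL).preconnected
  · intro h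
    exact not_preconnected_of_isL2 hG hna h

end Cfsg.Agent.H717.Deg
end

-- part: H677/DG/ConnDia
section
/-!
# `FactConn` and `FactDia` without hypotheses (helper677)

This module imports the classification `S0000` (through `GraphFin`).
-/

set_option autoImplicit false

namespace Cfsg.Agent.H677.DG

open Cfsg Cfsg.Agent.H671.H5 Cfsg.Agent.H671.GraphAsm

universe u

/-- **`FactConn`** : the degree graph of a nonabelian simple group other than `PSL(2,F)` is connected. -/
theorem factConnAll : FactConn.{u} := factConn' knownAll knownAll herzog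

/-- **`FactDia`** : connected degree graphs of the simple groups other than `PSL(2,F)` have diameter at most three. -/
theorem factDiaAll : FactDia.{u} :=
  factDia' knownAll knownAll herzog

end Cfsg.Agent.H677.DG
end
end
end
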